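import Groth.Agent.WeilLib.Dim
import Groth.Agent.FibDimLib.Formula
import Mathlib

/-!
# A dominating rational parametrisation can be cut down to the right dimension
-/

set_option autoImplicit false
set_option linter.style.haveILetI false
universe u

open MvPolynomial

noncomputable section

namespace DomRatLib

variable {k : Type u} [Field k]

theorem dim_eq (A L : Type u) [CommRing A] [IsDomain A] [Field L] [Algebra k A] [Algebra.FiniteType k A]
    [Algebra k L] [Algebra A L] [IsScalarTower k A L] [FaithfulSMul A L] [Algebra.IsAlgebraic A L] :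
    ∃ s : ℕ, ringKrullDim A = s ∧ Algebra.trdeg k L = s ∧ Algebra.trdeg k A = s := by
  obtain ⟨s, hs, hs'⟩ := WeilLib.dim_eq_trdeg k A (FractionRing A)
  haveI : Algebra.IsAlgebraic A (FractionRing A) := IsLocalization.isAlgebraic _ (nonZeroDivisors A)
  have e1 := trdeg_add_eq k A (A := FractionRing A)
  rw [trdeg_eq_zero (R := A) (A := FractionRing A), add_zero, hs'] at e1
  have e2 := trdeg_add_eq k A (A := L)
  rw [trdeg_eq_zero (R := A) (A := L), add_zero, e1] at e2
  exact ⟨s, hs, e2.symm, e1⟩

/-- A field is algebraic over a domain as soon as its generators are. -/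
theorem isAlgebraic_of_gens {m : ℕ} (R : Type u) [CommRing R] [IsDomain R] [Algebra k R]
    [Algebra R (FractionRing (MvPolynomial (Fin m) k))] [IsScalarTower k R (FractionRing (MvPolynomial (Fin m) k))]
    (h : ∀ i : Fin m, IsAlgebraic R (algebraMap (MvPolynomial (Fin m) k) (FractionRing (MvPolynomial (Fin m) k)) (X i)))
    (hinj : Function.Injective (algebraMap R (FractionRing (MvPolynomial (Fin m) k)))) :
    Algebra.IsAlgebraic R (FractionRing (MvPolynomial (Fin m) k)) := by
  let T := Subalgebra.algebraicClosure R (FractionRing (MvPolynomial (Fin m) k))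
  have hp : ∀ q : MvPolynomial (Fin m) k, algebraMap _ (FractionRing (MvPolynomial (Fin m) k)) q ∈ T := by
    intro q
    induction q using MvPolynomial.induction_on with
    | C a =>
      have : algebraMap (MvPolynomial (Fin m) k) (FractionRing (MvPolynomial (Fin m) k)) (C a) =
          algebraMap R _ (algebraMap k R a) := by
        rw [← IsScalarTower.algebraMap_apply k R (FractionRing (MvPolynomial (Fin m) k)), ← MvPolynomial.algebraMap_eq,
          ← IsScalarTower.algebraMap_apply k (MvPolynomial (Fin m) k) (FractionRing (MvPolynomial (Fin m) k))]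
      rw [this]
      exact T.algebraMap_mem _
    | add a b ha hb => rw [map_add]; exact add_mem ha hb
    | mul_X a i ha => rw [map_mul]; exact mul_mem ha (h i)
  refine ⟨fun z => ?_⟩
  obtain ⟨a, b, -, rfl⟩ := IsFractionRing.div_surjective (A := MvPolynomial (Fin m) k) z
  have ha : IsAlgebraic R _ := hp a
  rw [div_eq_mul_inv]
  exact ha.mul (IsAlgebraic.inv (hp b))

/-- Specialising some of the variables keeps a parametrisation dominant, and reaches the right dimension. -/
theorem exists_param [Infinite k] {n : ℕ} (A : Type u) [CommRing A] [IsDomain A] [Algebra k A]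
    [Algebra.FiniteType k A] (f : MvPolynomial (Fin n) k) (hf : f ≠ 0)
    (θ₀ : A →ₐ[k] Localization.Away f) (hθ : Function.Injective θ₀) :
    ∃ (m : ℕ) (g : MvPolynomial (Fin m) k) (ψ : A →ₐ[k] Localization.Away g),
      g ≠ 0 ∧ Function.Injective ψ ∧ ringKrullDim A = m := by
  classical
  let P := MvPolynomial (Fin n) k
  let L₀ := FractionRing P
  have hpow : Submonoid.powers f ≤ nonZeroDivisors P := powers_le_nonZeroDivisors_of_noZeroDivisors hf
  let ι : Localization.Away f →ₐ[k] L₀ :=
    IsLocalization.liftAlgHom (M := Submonoid.powers f) (f := IsScalarTower.toAlgHom k P L₀)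
      (fun s => (map_ne_zero_iff _ (IsFractionRing.injective P L₀)).2 (nonZeroDivisors.ne_zero (hpow s.2)) |>.isUnit)
  have hι : Function.Injective ι := by
    refine (injective_iff_map_eq_zero _).2 fun z hz => ?_
    obtain ⟨⟨a, s⟩, has⟩ := IsLocalization.surj (Submonoid.powers f) z
    have h2 : ι (algebraMap P (Localization.Away f) a) = algebraMap P L₀ a :=
      IsLocalization.lift_eq _ a
    have h3 : algebraMap P L₀ a = 0 := by rw [← h2, ← has, map_mul, hz, zero_mul]
    rw [map_eq_zero_iff _ (IsFractionRing.injective P L₀)] at h3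
    rw [h3, map_zero] at has
    exact (IsLocalization.map_units _ s).mul_left_eq_zero.1 has
  have hιalg : ∀ a : P, ι (algebraMap P (Localization.Away f) a) = algebraMap P L₀ a :=
    fun a => IsLocalization.lift_eq _ a
  let θ : A →ₐ[k] L₀ := ι.comp θ₀
  obtain ⟨b, hb⟩ := exists_isTranscendenceBasis k A
  have hbθ : AlgebraicIndepOn k id (θ '' b) := by
    have := (hb.1.map' (f := θ) (hι.comp hθ)).to_subtype_range
    rwa [Set.range_comp, Subtype.range_coe] at this
  let v : Fin n → L₀ := fun i => algebraMap P L₀ (X i)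
  have hgen : Algebra.IsAlgebraic (Algebra.adjoin k (θ '' b ∪ Set.range v)) L₀ := by
    have hP : ∀ q : P, algebraMap P L₀ q ∈ Algebra.adjoin k (θ '' b ∪ Set.range v) := by
      intro q
      induction q using MvPolynomial.induction_on with
      | C a =>
        rw [← MvPolynomial.algebraMap_eq, ← IsScalarTower.algebraMap_apply k P L₀]
        exact Subalgebra.algebraMap_mem _ _
      | add a c ha hc => rw [map_add]; exact add_mem ha hc
      | mul_X a i ha => rw [map_mul]; exact mul_mem ha (Algebra.subset_adjoin (Or.inr ⟨i, rfl⟩))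
    refine ⟨fun z => ?_⟩
    obtain ⟨a, c, -, rfl⟩ := IsFractionRing.div_surjective (A := P) z
    rw [div_eq_mul_inv]
    exact (isAlgebraic_algebraMap (⟨_, hP a⟩ : Algebra.adjoin k (θ '' b ∪ Set.range v))).mul
      (IsAlgebraic.inv (isAlgebraic_algebraMap (⟨_, hP c⟩ : Algebra.adjoin k (θ '' b ∪ Set.range v))))
  obtain ⟨u, hsu, hut, hu⟩ := exists_isTranscendenceBasis_between (R := k) (θ '' b) (θ '' b ∪ Set.range v)
    Set.subset_union_left hbθ
  haveI : Algebra.IsAlgebraic (Algebra.adjoin k u) L₀ := by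
    have := hu.isAlgebraic
    rwa [Subtype.range_coe] at this
  let S : Finset (Fin n) := Finset.univ.filter fun i => v i ∈ u ∧ v i ∉ θ '' b
  -- sizes
  have hvinj : Function.Injective v := (IsFractionRing.injective P L₀).comp (X_injective (R := k))
  have hucard : Cardinal.mk u = n := by
    rw [hu.cardinalMk_eq_trdeg]
    haveI : Algebra.IsAlgebraic P L₀ := IsLocalization.isAlgebraic _ (nonZeroDivisors P)
    obtain ⟨s, -, hs, hs'⟩ := dim_eq (k := k) P L₀
    rw [MvPolynomial.trdeg_of_isDomain] at hs'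
    simp at hs'
    rw [hs, ← hs']
  haveI : Algebra.IsAlgebraic A (FractionRing A) := IsLocalization.isAlgebraic _ (nonZeroDivisors A)
  obtain ⟨m₀, hdim₀, -, htr₀⟩ := dim_eq (k := k) A (FractionRing A)
  have hbcard : Cardinal.mk (θ '' b : Set L₀) = m₀ := by
    rw [Cardinal.mk_image_eq (show Function.Injective θ from hι.comp hθ), hb.cardinalMk_eq_trdeg, htr₀]
  have hu' : u = θ '' b ∪ v '' S := by
    refine Set.Subset.antisymm (fun z hz => ?_) (Set.union_subset hsu ?_)
    · rcases hut hz with h | ⟨i, rfl⟩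
      · exact Or.inl h
      · by_cases h : v i ∈ θ '' b
        · exact Or.inl h
        · exact Or.inr ⟨i, Finset.mem_filter.2 ⟨Finset.mem_univ i, hz, h⟩, rfl⟩
    · rintro _ ⟨i, hi, rfl⟩
      exact (Finset.mem_filter.1 hi).2.1
  have hsum : m₀ + S.card = n := by
    have : Cardinal.mk u = m₀ + S.card := by
      rw [hu', Cardinal.mk_union_of_disjoint, hbcard]
      · congr 1
        have h := Cardinal.mk_image_eq_lift v (S : Set (Fin n)) hvinj
        rw [show Cardinal.mk ↑(S : Set (Fin n)) = (S.card : Cardinal) from Cardinal.mk_coe_finset, Cardinal.lift_natCast] at h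
        simpa using h
      rw [Set.disjoint_left]
      rintro _ hz ⟨i, hi, rfl⟩
      exact (Finset.mem_filter.1 hi).2.2 hz
    rw [hucard] at this
    exact_mod_cast this.symm
  obtain ⟨m, hm⟩ : ∃ m, Fintype.card {i : Fin n // i ∉ S} = m := ⟨_, rfl⟩
  have hmm : m = m₀ := by
    rw [← hm, Fintype.card_subtype_compl, Fintype.card_coe, Fintype.card_fin]
    omega
  let e := Fintype.equivFinOfCardEq hm
  -- lifting the algebraic relations
  let R := MvPolynomial S A
  let Θ₀ : R →ₐ[k] Localization.Away f :=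
    { eval₂Hom θ₀.toRingHom (fun i => algebraMap P _ (X i.1)) with
      commutes' := fun c => by
        simp [R, IsScalarTower.algebraMap_apply k A (MvPolynomial S A), MvPolynomial.algebraMap_eq] }
  have hΘC : ∀ a, Θ₀ (C a) = θ₀ a := fun a => eval₂_C _ _ _
  have hΘX : ∀ i : S, Θ₀ (X i) = algebraMap P _ (X i.1) := fun i => eval₂_X _ _ _
  have hu_le : Algebra.adjoin k u ≤ (ι.comp Θ₀).range := by
    rw [Algebra.adjoin_le_iff, hu']
    rintro _ (⟨a, -, rfl⟩ | ⟨i, hi, rfl⟩)
    · exact ⟨C a, congrArg ι (hΘC a)⟩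
    · exact ⟨X ⟨i, hi⟩, (congrArg ι (hΘX ⟨i, hi⟩)).trans (hιalg _)⟩
  have rel : ∀ j : Fin n, ∃ Q : Polynomial R, ∃ l : ℕ, Θ₀ (Q.coeff l) ≠ 0 ∧
      Q.eval₂ Θ₀.toRingHom (algebraMap P _ (X j)) = 0 := by
    intro j
    obtain ⟨q, hq0, hq⟩ := Algebra.IsAlgebraic.isAlgebraic (R := Algebra.adjoin k u) (v j)
    have hlift : q.map (Algebra.adjoin k u).val.toRingHom ∈ Polynomial.lifts ((ι.comp Θ₀).toRingHom) :=
      (Polynomial.lifts_iff_coeff_lifts _).2 fun l => by
        rw [Polynomial.coeff_map]
        exact hu_le (q.coeff l).2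
    obtain ⟨Q, hQ⟩ := (Polynomial.mem_lifts _).1 hlift
    obtain ⟨l, hl⟩ : ∃ l, q.coeff l ≠ 0 := ⟨q.natDegree, Polynomial.leadingCoeff_ne_zero.2 hq0⟩
    refine ⟨Q, l, fun h => hl ?_, hι ?_⟩
    · have := congrArg (Polynomial.coeff · l) hQ
      simp only [Polynomial.coeff_map] at this
      apply Subtype.ext
      change (Algebra.adjoin k u).val (q.coeff l) = 0
      exact this.symm.trans ((congrArg ι h).trans (map_zero ι))
    · have e1 : ι (Q.eval₂ Θ₀.toRingHom (algebraMap P _ (X j))) =
          (Q.map (ι.comp Θ₀).toRingHom).eval (v j) := by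
        rw [Polynomial.eval_map, show v j = ι (algebraMap P _ (X j)) from (hιalg _).symm]
        exact Polynomial.hom_eval₂ Q Θ₀.toRingHom ι.toRingHom _
      rw [map_zero, e1, hQ, Polynomial.eval_map]
      exact hq
  choose Q l hl hQ using rel
  have num : ∀ j, ∃ a : P, a ≠ 0 ∧ ∃ N : ℕ, Θ₀ ((Q j).coeff (l j)) * algebraMap P _ (f ^ N) = algebraMap P _ a := by
    intro j
    obtain ⟨⟨a, _, N, rfl⟩, ha⟩ := IsLocalization.surj (Submonoid.powers f) (Θ₀ ((Q j).coeff (l j)))
    refine ⟨a, fun h0 => hl j ?_, N, ha⟩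
    simp only [h0, map_zero] at ha
    exact (IsLocalization.map_units (Localization.Away f) (⟨f ^ N, N, rfl⟩ : Submonoid.powers f)).mul_left_eq_zero.1 ha
  choose a ha N hN using num
  obtain ⟨p, hp⟩ : ∃ p : Fin n → k, MvPolynomial.eval p (f * ∏ j, a j) ≠ 0 := by
    by_contra h
    push Not at h
    exact (mul_ne_zero hf (Finset.prod_ne_zero_iff.2 fun j _ => ha j))
      (MvPolynomial.funext fun x => by rw [h x, map_zero])
  rw [map_mul, map_prod, mul_ne_zero_iff, Finset.prod_ne_zero_iff] at hp
  let ev : P →ₐ[k] MvPolynomial (Fin m) k :=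
    aeval fun i => if h : i ∈ S then C (p i) else X (e ⟨i, h⟩)
  have hevC : ∀ c : k, ev (C c) = C c := fun c => ev.commutes c
  have hevX : ∀ i, ev (X i) = if h : i ∈ S then C (p i) else X (e ⟨i, h⟩) := fun i =>
    aeval_X (R := k) _ i
  have hev : ∀ q : P, MvPolynomial.eval (fun t => p (e.symm t).1) (ev q) = MvPolynomial.eval p q := by
    intro q
    induction q using MvPolynomial.induction_on with
    | C c => rw [hevC, MvPolynomial.eval_C, MvPolynomial.eval_C]
    | add x y hx hy => simp only [map_add, hx, hy]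
    | mul_X x i hx =>
      simp only [map_mul, hx]
      congr 1
      rw [hevX]
      split <;> simp
  have hne : ∀ q : P, MvPolynomial.eval p q ≠ 0 → ev q ≠ 0 := fun q h h0 => h (by rw [← hev, h0, map_zero])
  let g := ev f
  have hg : g ≠ 0 := hne f hp.1
  let σ : Localization.Away f →ₐ[k] Localization.Away g :=
    IsLocalization.liftAlgHom (M := Submonoid.powers f)
      (f := (IsScalarTower.toAlgHom k (MvPolynomial (Fin m) k) (Localization.Away g)).comp ev)
      (by
        rintro ⟨_, N, rfl⟩
        show IsUnit (algebraMap (MvPolynomial (Fin m) k) (Localization.Away g) (ev (f ^ N)))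
        rw [map_pow]
        exact (IsLocalization.map_units (Localization.Away g) (⟨g ^ N, N, rfl⟩ : Submonoid.powers g)))
  have hσ : ∀ q : P, σ (algebraMap P _ q) = algebraMap _ (Localization.Away g) (ev q) :=
    fun q => IsLocalization.lift_eq _ q
  let ψ : A →ₐ[k] Localization.Away g := σ.comp θ₀
  have hgpow : Submonoid.powers g ≤ nonZeroDivisors (MvPolynomial (Fin m) k) :=
    powers_le_nonZeroDivisors_of_noZeroDivisors hg
  haveI : IsDomain (Localization.Away g) := IsLocalization.isDomain_localization hgpow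
  let L' := FractionRing (MvPolynomial (Fin m) k)
  let ι' : Localization.Away g →ₐ[k] L' :=
    IsLocalization.liftAlgHom (M := Submonoid.powers g) (f := IsScalarTower.toAlgHom k (MvPolynomial (Fin m) k) L')
      (fun s => (map_ne_zero_iff _ (IsFractionRing.injective (MvPolynomial (Fin m) k) L')).2
        (nonZeroDivisors.ne_zero (hgpow s.2)) |>.isUnit)
  have hι' : ∀ q, ι' (algebraMap (MvPolynomial (Fin m) k) (Localization.Away g) q) = algebraMap _ L' q :=
    fun q => IsLocalization.lift_eq _ q
  let φ : A →ₐ[k] L' := ι'.comp ψ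
  let I := RingHom.ker φ
  haveI : I.IsPrime := RingHom.ker_isPrime _
  letI : Algebra (A ⧸ I) L' := (RingHom.kerLift φ.toRingHom).toAlgebra
  haveI : IsScalarTower k (A ⧸ I) L' := IsScalarTower.of_algebraMap_eq fun c => (φ.commutes c).symm
  have hinjq : Function.Injective (algebraMap (A ⧸ I) L') := RingHom.kerLift_injective φ.toRingHom
  haveI : FaithfulSMul (A ⧸ I) L' := (faithfulSMul_iff_algebraMap_injective _ _).2 hinjq
  let spec : R →+* A := eval₂Hom (RingHom.id A) fun i => algebraMap k A (p i.1)
  have hspec : (σ.comp Θ₀).toRingHom = ψ.toRingHom.comp spec := by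
    refine MvPolynomial.ringHom_ext (fun x => ?_) fun i => ?_
    · show σ (Θ₀ (C x)) = σ (θ₀ (spec (C x)))
      rw [hΘC, show spec (C x) = x from eval₂_C _ _ _]
    · show σ (Θ₀ (X i)) = σ (θ₀ (spec (X i)))
      rw [hΘX, hσ, hevX, dif_pos i.2, show spec (X i) = algebraMap k A (p i.1) from eval₂_X _ _ _]
      rw [θ₀.commutes, σ.commutes, ← MvPolynomial.algebraMap_eq, ← IsScalarTower.algebraMap_apply]
  haveI : Algebra.IsAlgebraic (A ⧸ I) L' := by
    refine isAlgebraic_of_gens (k := k) _ (fun t => ?_) hinjq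
    let j := (e.symm t).1
    have hj : j ∉ S := (e.symm t).2
    let q : Polynomial (A ⧸ I) := (Q j).map ((Ideal.Quotient.mk I).comp spec)
    have key : ∀ r : R, algebraMap (A ⧸ I) L' (Ideal.Quotient.mk I (spec r)) = ι' (σ (Θ₀ r)) := fun r =>
      (congrArg ι' (RingHom.congr_fun hspec r)).symm
    refine ⟨q, fun h0 => ?_, ?_⟩
    · have h1 := congrArg (fun z => algebraMap (A ⧸ I) L' (Polynomial.coeff z (l j))) h0
      simp only [q, Polynomial.coeff_map, RingHom.comp_apply, key, Polynomial.coeff_zero, map_zero] at h1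
      have h2 := congrArg (fun z => ι' (σ z)) (hN j)
      simp only [map_mul, h1, zero_mul, hσ, hι'] at h2
      exact hne _ (hp.2 j (Finset.mem_univ _)) ((map_eq_zero_iff _ (IsFractionRing.injective _ L')).1 h2.symm)
    · have h1 := congrArg (fun z => ι' (σ z)) (hQ j)
      simp only [map_zero] at h1
      have hx : ι' (σ (algebraMap P _ (X j))) = algebraMap (MvPolynomial (Fin m) k) L' (X t) := by
        rw [hσ, hι', hevX, dif_neg hj]
        simp [j]
      rw [← h1, ← hx, Polynomial.aeval_def, Polynomial.eval₂_map,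
        show ι' (σ (Polynomial.eval₂ Θ₀.toRingHom _ (Q j))) = _ from
          Polynomial.hom_eval₂ (Q j) Θ₀.toRingHom ((ι'.comp σ).toRingHom) (algebraMap P _ (X j))]
      exact Polynomial.eval₂_congr (RingHom.ext key) rfl rfl
  obtain ⟨s, hs, hs', -⟩ := dim_eq (k := k) (A ⧸ I) L'
  haveI : Algebra.IsAlgebraic (MvPolynomial (Fin m) k) L' := IsLocalization.isAlgebraic _ (nonZeroDivisors _)
  obtain ⟨s', -, hs'', hs3⟩ := dim_eq (k := k) (MvPolynomial (Fin m) k) L'
  rw [MvPolynomial.trdeg_of_isDomain] at hs3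
  simp at hs3
  have hsm : s = m := by
    rw [hs'] at hs''
    rw [← hs3] at hs''
    exact_mod_cast hs''
  have hI : I = ⊥ := by
    by_contra hI
    have hh : (1 : WithBot ℕ∞) ≤ (I.height : WithBot ℕ∞) := by
      have h0 : I.height ≠ 0 := fun h0 => by
        rw [Ideal.height_eq_zero_iff, IsDomain.minimalPrimes_eq_singleton_bot] at h0
        exact hI h0
      exact_mod_cast ENat.one_le_iff_ne_zero.2 h0
    have h := FibDimLib.ringKrullDim_quotient_add_height_affine k A I
    rw [hs, hdim₀, hsm, hmm] at h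
    have h2 := (add_le_add (le_refl ((m₀ : ℕ) : WithBot ℕ∞)) hh).trans h.le
    norm_cast at h2
    omega
  refine ⟨m, g, ψ, hg, ?_, by rw [hdim₀, hmm]⟩
  have hφ : Function.Injective φ := (RingHom.injective_iff_ker_eq_bot φ).2 hI
  exact Function.Injective.of_comp (f := ι') hφ

end DomRatLib
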